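import Mathlib
import Groth.Agent.CSALib.Splitting

/-! Elements of finite order modulo the centre in a central simple algebra. -/

set_option autoImplicit false

open Polynomial
open scoped TensorProduct

namespace Groth.Agent.BddCycH7

universe u v w

variable {K : Type u} [Field K]

/-- Two elements with the same `m`-th power differ by a root of unity in `K`. -/
lemma ratio_mem (hK : ∀ n : ℕ, 0 < n → (X ^ n - 1 : K[X]).Splits) {L : Type w} [Field L] [Algebra K L]
    {m : ℕ} (hm : 0 < m) {α β : L} (hα : α ≠ 0) (h : β ^ m = α ^ m) :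
    ∃ ζ : K, β = algebraMap K L ζ * α := by
  have hne : (X ^ m - 1 : K[X]) ≠ 0 := by simpa using X_pow_sub_C_ne_zero hm (1 : K)
  obtain ⟨ζ, hζ⟩ := (hK m hm).mem_range_of_isRoot hne (i := algebraMap K L) (x := β / α) (by
    simp [h, div_pow, hα])
  exact ⟨ζ, by rw [hζ, div_mul_cancel₀ _ hα]⟩

lemma pow_natDegree_mem (hK : ∀ n : ℕ, 0 < n → (X ^ n - 1 : K[X]).Splits) {L : Type w} [Field L]
    [Algebra K L] {m : ℕ} (hm : 0 < m) {α : L} (hα : α ≠ 0) (hc : α ^ m ∈ (algebraMap K L).range) :
    α ^ (minpoly K α).natDegree ∈ (algebraMap K L).range := by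
  obtain ⟨c, hc⟩ := hc
  have hint : IsIntegral K α := ⟨X ^ m - C c, monic_X_pow_sub_C c hm.ne', by simp [hc]⟩
  let Fc := AlgebraicClosure L
  let z : Fc := algebraMap L Fc α
  have hz : z ≠ 0 := (_root_.map_ne_zero _).2 hα
  let μ : Fc[X] := (minpoly K α).map (algebraMap K Fc)
  have hμm : μ.Monic := (minpoly.monic hint).map _
  have hroots : ∀ r ∈ μ.roots, ∃ ζ : K, r = algebraMap K Fc ζ * z := by
    intro r hr
    refine ratio_mem hK hm hz ?_
    have hd : μ ∣ (X ^ m - C c : K[X]).map (algebraMap K Fc) :=
      Polynomial.map_dvd _ (minpoly.dvd K α (by simp [hc]))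
    have h0 := eval_eq_zero_of_dvd_of_eval_eq_zero hd (isRoot_of_mem_roots hr)
    rw [Polynomial.map_sub, Polynomial.map_pow, map_X, map_C, eval_sub, eval_pow, eval_X, eval_C,
      sub_eq_zero] at h0
    rw [h0, show z ^ m = algebraMap L Fc (α ^ m) from (map_pow _ _ _).symm, ← hc,
      ← IsScalarTower.algebraMap_apply]
  have key : ∀ s : Multiset Fc, (∀ r ∈ s, ∃ ζ : K, r = algebraMap K Fc ζ * z) →
      ∃ ζ : K, s.prod = algebraMap K Fc ζ * z ^ Multiset.card s := by
    intro s
    induction s using Multiset.induction_on with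
    | empty => exact fun _ => ⟨1, by simp⟩
    | cons r s ih =>
      intro h
      obtain ⟨ζ, hζ⟩ := h r (Multiset.mem_cons_self r s)
      obtain ⟨ξ, hξ⟩ := ih fun t ht => h t (Multiset.mem_cons_of_mem ht)
      exact ⟨ζ * ξ, by rw [Multiset.prod_cons, Multiset.card_cons, hζ, hξ, map_mul, pow_succ]; ring⟩
  obtain ⟨ζ, hζ⟩ := key _ hroots
  have hsp : μ.Splits := IsAlgClosed.splits μ
  have h1 := hsp.coeff_zero_eq_prod_roots_of_monic hμm
  have hcard : Multiset.card μ.roots = (minpoly K α).natDegree := by
    rw [← hsp.natDegree_eq_card_roots, natDegree_map]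
  rw [hζ, hcard, coeff_map, natDegree_map] at h1
  have h00 : (minpoly K α).coeff 0 ≠ 0 := minpoly.coeff_zero_ne_zero hint hα
  have hζ0 : ζ ≠ 0 := by
    rintro rfl
    rw [map_zero, zero_mul, mul_zero] at h1
    exact h00 ((algebraMap K Fc).injective (h1.trans (map_zero _).symm))
  refine ⟨(minpoly K α).coeff 0 / ((-1) ^ (minpoly K α).natDegree * ζ), (algebraMap L Fc).injective ?_⟩
  rw [← IsScalarTower.algebraMap_apply, map_div₀, h1, map_mul, map_pow, map_pow, map_neg, map_one]
  have hn : (-1 : Fc) ^ (minpoly K α).natDegree ≠ 0 := pow_ne_zero _ (by simp)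
  have hζ' : algebraMap K Fc ζ ≠ 0 := (_root_.map_ne_zero _).2 hζ0
  rw [div_eq_iff (mul_ne_zero hn hζ')]
  ring

/-- The dimension of a representation of `n × n` matrices is a multiple of `n`. -/
lemma dvd_finrank_of_matrix {F : Type w} [Field F] {n : ℕ} {W : Type v} [AddCommGroup W] [Module F W]
    [FiniteDimensional F W] (Φ : Matrix (Fin n) (Fin n) F →ₐ[F] Module.End F W) :
    n ∣ Module.finrank F W := by
  classical
  rcases Nat.eq_zero_or_pos n with rfl | hn
  · have h : (0 : Module.End F W) = 1 := by
      rw [← map_zero Φ, ← map_one Φ, Subsingleton.elim (0 : Matrix (Fin 0) (Fin 0) F) 1]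
    haveI : Subsingleton W := ⟨fun a b => by
      rw [← Module.End.one_apply (R := F) a, ← Module.End.one_apply (R := F) b, ← h]; simp⟩
    simp [Module.finrank_zero_of_subsingleton]
  let o : Fin n := ⟨0, hn⟩
  have hm : ∀ i j l, ∀ w, Φ (Matrix.single i j 1) (Φ (Matrix.single j l 1) w) = Φ (Matrix.single i l 1) w :=
    fun i j l w => by rw [← Module.End.mul_apply, ← map_mul, Matrix.single_mul_single_same, one_mul]
  have hm0 : ∀ i j j' l, j ≠ j' → ∀ w, Φ (Matrix.single i j 1) (Φ (Matrix.single j' l 1) w) = 0 :=
    fun i j j' l h w => by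
      rw [← Module.End.mul_apply, ← map_mul, Matrix.single_mul_single_of_ne _ _ _ _ h, map_zero,
        LinearMap.zero_apply]
  let P := LinearMap.range (Φ (Matrix.single o o 1))
  let toV : W →ₗ[F] (Fin n → P) := LinearMap.pi fun i =>
    (Φ (Matrix.single o i 1)).codRestrict P fun w => ⟨_, hm o o i w⟩
  have hto : Function.Bijective toV := by
    constructor
    · intro a b hab
      have h1 : (1 : Matrix (Fin n) (Fin n) F) = ∑ i, Matrix.single i i 1 := by
        ext a b
        simp [Matrix.one_apply, Matrix.sum_apply, Matrix.single_apply, ite_and]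
      have h2 : ∀ w, w = ∑ i, Φ (Matrix.single i o 1) (Φ (Matrix.single o i 1) w) := fun w => by
        simp only [hm, ← LinearMap.sum_apply, ← map_sum, ← h1, map_one, Module.End.one_apply]
      rw [h2 a, h2 b]
      exact Finset.sum_congr rfl fun i _ =>
        congrArg _ (congrArg Subtype.val (congrFun hab i))
    · intro v
      refine ⟨∑ i, Φ (Matrix.single i o 1) (v i : W), funext fun i => Subtype.ext ?_⟩
      show Φ (Matrix.single o i 1) (∑ j, Φ (Matrix.single j o 1) (v j : W)) = v i
      rw [map_sum, Finset.sum_eq_single i (fun b _ hb => hm0 _ _ _ _ (Ne.symm hb) _) (by simp), hm]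
      obtain ⟨w, hw⟩ := (v i).2
      rw [← hw, hm]
  rw [(LinearEquiv.ofBijective toV hto).finrank_eq, Module.finrank_pi_fintype]
  exact ⟨Module.finrank F P, by simp⟩

lemma commute_aeval {B : Type v} [Ring B] [Algebra K B] {T y : B} (h : Commute T y) (p : K[X]) :
    Commute (aeval T p) y := by
  induction p using Polynomial.induction_on' with
  | add a b ha hb => rw [map_add]; exact ha.add_left hb
  | monomial i r =>
    rw [aeval_monomial]
    exact (Algebra.commute_algebraMap_left r _).mul_left (h.pow_left i)

lemma aeval_mul_X' {B : Type v} [Ring B] [Algebra K B] (T : B) (p : K[X]) :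
    aeval T (p * X) = aeval T p * T := by rw [map_mul, aeval_X]

variable {A : Type v} [Ring A] [Algebra K A] [Algebra.IsCentral K A] [IsSimpleRing A]
  [FiniteDimensional K A]

/-- A module over `A` with a commuting action of an irreducible `q`: `deg q * n ∣ dim`. -/
lemma dvd_finrank_of_irreducible {n : ℕ} (hA : Module.finrank K A = n ^ 2) {q : K[X]} (hq : Irreducible q)
    {V : Type v} [AddCommGroup V] [Module K V] [FiniteDimensional K V]
    (ρ : A →ₐ[K] Module.End K V) (T : Module.End K V) (hT : ∀ a, Commute T (ρ a))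
    (h0 : aeval T q = 0) : q.natDegree * n ∣ Module.finrank K V := by
  haveI : Fact (Irreducible q) := ⟨hq⟩
  let L := AdjoinRoot q
  have hH : ∀ p ∈ Ideal.span ({q} : Set K[X]), (aeval T).toRingHom p = 0 := by
    intro p hp
    obtain ⟨c, rfl⟩ := Ideal.mem_span_singleton'.1 hp
    show aeval T (c * q) = 0
    rw [map_mul, h0, mul_zero]
  let τ : L →ₐ[K] Module.End K V :=
    { toRingHom := Ideal.Quotient.lift (Ideal.span ({q} : Set K[X])) (aeval T).toRingHom hH
      commutes' := fun r => by
        show aeval T (C r) = _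
        exact aeval_C T r }
  letI : Module L V := Module.compHom V τ.toRingHom
  have hL : ∀ (l : L) (v : V), l • v = τ l v := fun l v => rfl
  haveI : IsScalarTower K L V := ⟨fun r l v => by rw [hL, hL, map_smul, LinearMap.smul_apply]⟩
  haveI : SMulCommClass K L V := IsScalarTower.to_smulCommClass
  haveI : Module.Finite L V := Module.Finite.of_restrictScalars_finite K L V
  have hc : ∀ (l : L) a, Commute (τ l) (ρ a) := by
    intro l a
    induction l using AdjoinRoot.induction_on with
    | ih p =>
      show Commute (aeval T p) (ρ a)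
      exact commute_aeval (hT a) p
  let ρL : A →ₐ[K] Module.End L V :=
    { toFun := fun a =>
        { toFun := ρ a
          map_add' := map_add (ρ a)
          map_smul' := fun l v => by
            simp only [RingHom.id_apply, hL]
            exact (LinearMap.congr_fun (hc l a).eq v).symm }
      map_one' := by ext v; simp
      map_mul' := fun a b => by ext v; simp
      map_zero' := by ext v; simp
      map_add' := fun a b => by ext v; simp
      commutes' := fun r => by ext v; simp }
  let Fc := AlgebraicClosure L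
  obtain ⟨n', -, ⟨e⟩⟩ := CSALib.splits_of_isSepClosed (k := K) (A := A) Fc
  have hn : n' = n := Nat.mul_self_inj.1 (by rw [← CSALib.finrank_of_splits e, hA, sq])
  subst hn
  let ψ : A →ₐ[K] Module.End Fc (Fc ⊗[L] V) :=
    ((Module.End.baseChangeHom L Fc V).restrictScalars K).comp ρL
  have := dvd_finrank_of_matrix ((AlgHom.liftEquiv K Fc A _ ψ).comp e.symm.toAlgHom)
  rw [Module.finrank_baseChange] at this
  rw [← Module.finrank_mul_finrank K L V,
    show Module.finrank K L = q.natDegree from (AdjoinRoot.powerBasis hq.ne_zero).finrank]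
  exact mul_dvd_mul_left _ this

lemma dvd_finrank_of_prod {n : ℕ} (hA : Module.finrank K A = n ^ 2) {d : ℕ} (s : Multiset K[X]) :
    (∀ q ∈ s, Irreducible q ∧ q.natDegree = d) →
    ∀ (V : Type v) [AddCommGroup V] [Module K V] [FiniteDimensional K V]
      (ρ : A →ₐ[K] Module.End K V) (T : Module.End K V), (∀ a, Commute T (ρ a)) →
      aeval T s.prod = 0 → d * n ∣ Module.finrank K V := by
  induction s using Multiset.induction_on with
  | empty =>
    intro _ V _ _ _ ρ T _ h0
    rw [Multiset.prod_zero, map_one] at h0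
    haveI : Subsingleton V := ⟨fun a b => by
      rw [← Module.End.one_apply (R := K) a, ← Module.End.one_apply (R := K) b, h0]; simp⟩
    simp [Module.finrank_zero_of_subsingleton]
  | cons q s ih =>
    intro hs V _ _ _ ρ T hT h0
    obtain ⟨hq, hqd⟩ := hs q (Multiset.mem_cons_self q s)
    let S := aeval T q
    have hS : ∀ a, Commute S (ρ a) := fun a => commute_aeval (hT a) q
    have hST : Commute S T := commute_aeval (Commute.refl T) q
    have res : ∀ (U : Submodule K V) (hU : ∀ a, ∀ v ∈ U, ρ a v ∈ U) (hTU : ∀ v ∈ U, T v ∈ U),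
        ∃ (ρ' : A →ₐ[K] Module.End K U) (T' : Module.End K U), (∀ a, Commute T' (ρ' a)) ∧
          ∀ (p : K[X]) (v : U), ((aeval T' p v : U) : V) = aeval T p (v : V) := by
      intro U hU hTU
      let ρ' : A →ₐ[K] Module.End K U :=
        { toFun := fun a => (ρ a).restrict (hU a)
          map_one' := by ext v; simp
          map_mul' := fun a b => by ext v; simp
          map_zero' := by ext v; simp
          map_add' := fun a b => by ext v; simp
          commutes' := fun r => by ext v; simp }
      refine ⟨ρ', T.restrict hTU, fun a => LinearMap.ext fun v => Subtype.ext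
        (LinearMap.congr_fun (hT a).eq (v : V)), fun p v => ?_⟩
      induction p using Polynomial.induction_on generalizing v with
      | C r => simp
      | add a b ha hb => simp [ha, hb]
      | monomial i r h =>
        rw [pow_succ, ← mul_assoc, aeval_mul_X', aeval_mul_X', Module.End.mul_apply,
          Module.End.mul_apply, h]
        rfl
    obtain ⟨ρ₁, T₁, hc₁, he₁⟩ := res (LinearMap.ker S)
      (fun a v hv => by
        rw [LinearMap.mem_ker] at hv ⊢
        rw [← Module.End.mul_apply, (hS a).eq, Module.End.mul_apply, hv, map_zero])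
      (fun v hv => by
        rw [LinearMap.mem_ker] at hv ⊢
        rw [← Module.End.mul_apply, hST.eq, Module.End.mul_apply, hv, map_zero])
    obtain ⟨ρ₂, T₂, hc₂, he₂⟩ := res (LinearMap.range S)
      (fun a v => by
        rintro ⟨w, rfl⟩
        exact ⟨ρ a w, LinearMap.congr_fun (hS a).eq w⟩)
      (fun v => by
        rintro ⟨w, rfl⟩
        exact ⟨T w, LinearMap.congr_fun hST.eq w⟩)
    rw [← LinearMap.finrank_range_add_finrank_ker S]
    refine Nat.dvd_add ?_ ?_
    · refine ih (fun r hr => hs r (Multiset.mem_cons_of_mem hr)) _ ρ₂ T₂ hc₂ ?_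
      refine LinearMap.ext fun v => Subtype.ext ?_
      obtain ⟨w, hw⟩ := v.2
      rw [he₂, ← hw, ← Module.End.mul_apply, ← map_mul, mul_comm, ← Multiset.prod_cons, h0]
      rfl
    · rw [← hqd]
      refine dvd_finrank_of_irreducible hA hq ρ₁ T₁ hc₁ (LinearMap.ext fun v => Subtype.ext ?_)
      rw [he₁]
      exact v.2

/-- If all irreducible factors of the minimal polynomial of `x` have degree `d`, then `d ∣ n`. -/
lemma dvd_degree {n : ℕ} (hn : Module.finrank K A = n ^ 2) (x : A) {d : ℕ} (s : Multiset K[X])
    (hs : ∀ q ∈ s, Irreducible q ∧ q.natDegree = d) (h0 : aeval x s.prod = 0) : d ∣ n := by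
  have hn0 : 0 < n := by
    have h := Module.finrank_pos (R := K) (M := A)
    rw [hn] at h
    exact Nat.pos_of_ne_zero (by rintro rfl; simp at h)
  have hr : ∀ p : K[X], ∀ v, aeval (LinearMap.mulRight K x) p v = v * aeval x p := by
    intro p
    induction p using Polynomial.induction_on with
    | C r => intro v; simp [Algebra.smul_def, Algebra.commutes]
    | add a b ha hb => intro v; simp [ha, hb, mul_add]
    | monomial i r h =>
      intro v
      rw [pow_succ, ← mul_assoc, aeval_mul_X', aeval_mul_X', Module.End.mul_apply, h,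
        LinearMap.mulRight_apply, mul_assoc, (commute_aeval (Commute.refl x) (C r * X ^ i)).eq]
  have h := dvd_finrank_of_prod hn s hs A (Algebra.lmul K A) (LinearMap.mulRight K x)
    (fun a => LinearMap.ext fun v => by simp [mul_assoc]) (LinearMap.ext fun v => by rw [hr, h0]; simp)
  rw [hn, sq] at h
  exact Nat.dvd_of_mul_dvd_mul_right hn0 h

end Groth.Agent.BddCycH7
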